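import Mathlib
import Groth.Agent.DimOneDvr.Complete
import Groth.Agent.AlgSpLib.ReducedStalk
import Groth.Agent.AdicRingLib.Completion

/-!
# Points of generically radicial finite covers

A finite cover which is radicial over the generic points has, over a given point of a locally Noetherian scheme, at
most as many points as the completed local ring has minimal primes.
-/

set_option autoImplicit false
set_option linter.all false
set_option backward.isDefEq.respectTransparency false
set_option backward.isDefEq.respectTransparency.types false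
set_option maxHeartbeats 400000

universe u

open CategoryTheory CategoryTheory.Limits AlgebraicGeometry IsLocalRing

noncomputable section

namespace AxRad

/-- A point without proper generalizations. -/
def IsGen {X : Type*} [TopologicalSpace X] (x : X) : Prop := ∀ x' : X, x' ⤳ x → x' = x

theorem exists_isGen {X : Scheme.{u}} (x : X) : ∃ z : X, IsGen z ∧ z ⤳ x := by
  let C := irreducibleComponent x
  have hC : IsIrreducible C := isIrreducible_irreducibleComponent
  let z := hC.genericPoint
  have hz : closure {z} = C := hC.isGenericPoint_genericPoint isClosed_irreducibleComponent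
  refine ⟨z, fun z' hz' => ?_, ?_⟩
  · have h1 : closure ({z'} : Set X) = C := by
      refine ((irreducibleComponent_mem_irreducibleComponents x).eq_of_subset
        isIrreducible_singleton.closure ?_).symm
      show C ≤ closure {z'}
      refine hz.symm.trans_le ?_
      exact closure_minimal (Set.singleton_subset_iff.2 hz'.mem_closure) isClosed_closure
    exact IsGenericPoint.eq (S := C) h1 hz
  · exact specializes_iff_mem_closure.2 (by rw [hz]; exact mem_irreducibleComponent)

theorem finite_isGen (X : Scheme.{u}) [IsNoetherian X] : {x : X | IsGen x}.Finite := by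
  refine (genericPoints.finite (TopologicalSpace.NoetherianSpace.finite_irreducibleComponents)).subset ?_
  intro x hx
  obtain ⟨C, hC, hsub⟩ := exists_mem_irreducibleComponents_subset_of_isIrreducible (closure ({x} : Set X))
    isIrreducible_singleton.closure
  have hCi : IsIrreducible C := hC.1
  have hz := hCi.isGenericPoint_genericPoint (isClosed_of_mem_irreducibleComponents C hC)
  have e : hCi.genericPoint = x := hx _ (specializes_iff_mem_closure.2 (by
    rw [hz]; exact hsub (subset_closure rfl)))
  show closure {x} ∈ irreducibleComponents X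
  rw [← e, hz]
  exact hC

/-- A finite surjective morphism which maps generic points to generic points and is radicial over them. -/
structure IsCover {W X : Scheme.{u}} (g : W ⟶ X) : Prop where
  finite : IsFinite g
  surj : Surjective g
  gen : ∀ w : W, IsGen w → IsGen (g w)
  inj : ∀ (K : Type u) [Field K] (a b : Spec (CommRingCat.of K) ⟶ W), a ≫ g = b ≫ g →
    IsGen (g (a (closedPoint K))) → a = b

theorem isCover_id (X : Scheme.{u}) : IsCover (𝟙 X) :=
  ⟨inferInstance, inferInstance, fun _ h => h, fun _ _ a b h _ => by simpa using h⟩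

/-- Over a complete local ring, a point of a finite scheme lies in the closure of at most one closed point. -/
theorem eq_of_specializes {A : Type u} [CommRing A] [IsLocalRing A] [IsNoetherianRing A]
    [IsAdicComplete (maximalIdeal A) A] {V : Scheme.{u}} (p : V ⟶ Spec (CommRingCat.of A)) [IsFinite p]
    (P n₁ n₂ : V) (h₁ : P ⤳ n₁) (h₂ : P ⤳ n₂) (e₁ : p n₁ = closedPoint A) (e₂ : p n₂ = closedPoint A) :
    n₁ = n₂ := by
  haveI : IsAffine V := isAffine_of_isAffineHom p
  let φ := Spec.preimage (V.isoSpec.inv ≫ p)
  have hφ : Spec.map φ = V.isoSpec.inv ≫ p := Spec.map_preimage _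
  haveI : IsFinite (Spec.map φ) := by rw [hφ]; infer_instance
  have hfin : φ.hom.Finite := (IsFinite.SpecMap_iff φ).1 ‹_›
  letI := φ.hom.toAlgebra
  haveI : Module.Finite A Γ(V, ⊤) := hfin
  let ι : V → PrimeSpectrum Γ(V, ⊤) := fun v => V.isoSpec.hom v
  have hι : Function.Injective ι := V.isoSpec.hom.homeomorph.injective
  have hp : ∀ v, PrimeSpectrum.comap φ.hom (ι v) = p v := fun v => by
    show Spec.map φ (V.isoSpec.hom v) = _
    rw [hφ, ← Scheme.Hom.comp_apply, Iso.hom_inv_id_assoc]
  have hle : ∀ v, P ⤳ v → (ι P).asIdeal ≤ (ι v).asIdeal := fun v hv =>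
    (PrimeSpectrum.le_iff_specializes _ _).2 (hv.map V.isoSpec.hom.continuous)
  haveI : Module.Finite A (Γ(V, ⊤) ⧸ (ι P).asIdeal) := Module.Finite.trans Γ(V, ⊤) _
  haveI : IsLocalRing (Γ(V, ⊤) ⧸ (ι P).asIdeal) := DimOneDvr.isLocalRing_of_finite_domain (A := A)
  have hmax : ∀ v, P ⤳ v → p v = closedPoint A →
      (ι v).asIdeal = (maximalIdeal (Γ(V, ⊤) ⧸ (ι P).asIdeal)).comap (Ideal.Quotient.mk _) := by
    intro v hv hev
    haveI : (ι v).asIdeal.IsMaximal := by
      apply Ideal.isMaximal_of_isIntegral_of_isMaximal_comap (R := A)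
      have hh := congrArg PrimeSpectrum.asIdeal ((hp v).trans hev)
      rw [show (ι v).asIdeal.comap (algebraMap A Γ(V, ⊤)) = maximalIdeal A from hh]
      infer_instance
    have hker : RingHom.ker (Ideal.Quotient.mk (ι P).asIdeal) ≤ (ι v).asIdeal := by
      rw [Ideal.mk_ker]; exact hle v hv
    let π := Ideal.Quotient.mk (ι P).asIdeal
    have hπ : Function.Surjective π := Ideal.Quotient.mk_surjective
    have hm := IsLocalRing.eq_maximalIdeal (R := Γ(V, ⊤) ⧸ (ι P).asIdeal)
      ((Ideal.map_eq_top_or_isMaximal_of_surjective π hπ (I := (ι v).asIdeal) ‹_›).resolve_left fun h => by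
        have := Ideal.comap_map_of_surjective π hπ (ι v).asIdeal
        rw [h, Ideal.comap_top, ← RingHom.ker_eq_comap_bot, sup_eq_left.2 hker] at this
        exact Ideal.IsMaximal.ne_top ‹_› this.symm)
    rw [← hm, Ideal.comap_map_of_surjective π hπ,
      ← RingHom.ker_eq_comap_bot, sup_eq_left.2 hker]
  exact hι (PrimeSpectrum.ext ((hmax n₁ h₁ e₁).trans (hmax n₂ h₂ e₂).symm))

/-- The number of points of a cover over a given point is bounded. -/
theorem exists_bound {X : Scheme.{u}} [IsLocallyNoetherian X] (y : X) : ∃ m : ℕ,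
    ∀ (W : Scheme.{u}) (g : W ⟶ X), IsCover g → ∀ s : Finset W, (∀ w ∈ s, g w = y) → s.card ≤ m := by
  let A := X.presheaf.stalk y
  let Ah := AdicCompletion (maximalIdeal A) A
  haveI : IsNoetherianRing Ah := AdicRingLib.isNoetherianRing_adicCompletion _
  let Y := Spec (CommRingCat.of Ah)
  haveI : IsNoetherian Y := inferInstance
  let l := CommRingCat.ofHom (algebraMap A Ah)
  let c : Y ⟶ X := Spec.map l ≫ X.fromSpecStalk y
  haveI : Flat (Spec.map l) := (HasRingHomProperty.Spec_iff (P := @Flat)).2
    (RingHom.flat_algebraMap_iff.2 inferInstance)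
  haveI : Flat (X.fromSpecStalk y) := AlgSpLib.flat_fromSpecStalk y
  have hco : c (closedPoint Ah) = y := by
    show X.fromSpecStalk y (Spec.map l (closedPoint Ah)) = y
    have : Spec.map l (closedPoint Ah) = closedPoint A :=
      IsLocalRing.comap_closedPoint (algebraMap A Ah)
    rw [this, Scheme.fromSpecStalk_closedPoint]
  refine ⟨(finite_isGen Y).toFinset.card, fun W g hg s hs => ?_⟩
  haveI := hg.finite
  let V := pullback g c
  let r : V ⟶ W := pullback.fst g c
  let p : V ⟶ Y := pullback.snd g c
  have rp : r ≫ g = p ≫ c := pullback.condition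
  have rpv : ∀ v : V, g (r v) = c (p v) := fun v => by
    rw [← Scheme.Hom.comp_apply, rp, Scheme.Hom.comp_apply]
  have hn : ∀ w : s, ∃ n : V, r n = w.1 ∧ p n = closedPoint Ah := fun w =>
    Scheme.Pullback.exists_preimage_pullback _ _ ((hs w.1 w.2).trans hco.symm)
  choose n hn1 hn2 using hn
  choose P hP hPn using fun w : s => exists_isGen (n w)
  have genW : ∀ v : V, IsGen v → IsGen (r v) := by
    intro v hv w' hw'
    obtain ⟨v', hv', rfl⟩ := Flat.generalizingMap r hw'
    rw [hv v' hv']
  have huniq : ∀ v v' : V, IsGen (g (r v)) → p v = p v' → v = v' := by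
    intro v v' hv h
    obtain ⟨z, hz1, hz2⟩ := Scheme.Pullback.exists_preimage_pullback (f := p) (g := p) v v' h
    let K := (pullback p p).residueField z
    let a := (pullback p p).fromSpecResidueField z ≫ pullback.fst p p
    let b := (pullback p p).fromSpecResidueField z ≫ pullback.snd p p
    have hap : a ≫ p = b ≫ p := by simp only [a, b, Category.assoc, pullback.condition]
    have hav : a (closedPoint K) = v := by
      simp only [a, Scheme.Hom.comp_apply, Scheme.fromSpecResidueField_apply, hz1]
    have hbv : b (closedPoint K) = v' := by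
      simp only [b, Scheme.Hom.comp_apply, Scheme.fromSpecResidueField_apply, hz2]
    have har : a ≫ r = b ≫ r := by
      refine hg.inj K _ _ ?_ ?_
      · calc (a ≫ r) ≫ g = (a ≫ p) ≫ c := (Category.assoc _ _ _).trans ((congrArg (a ≫ ·) rp).trans (Category.assoc _ _ _).symm)
          _ = (b ≫ p) ≫ c := by rw [hap]
          _ = (b ≫ r) ≫ g := (Category.assoc _ _ _).trans ((congrArg (b ≫ ·) rp.symm).trans (Category.assoc _ _ _).symm)
      · show IsGen (g (r (a (closedPoint K))))
        exact (congrArg (fun t => g (r t)) hav).symm ▸ hv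
    have hab : a = b := pullback.hom_ext har hap
    rw [← hav, hab, hbv]
  have hq : ∀ w, IsGen (p (P w)) := by
    intro w q0 h0
    have hη : IsGen (g (r (P w))) := hg.gen _ (genW _ (hP w))
    have hcq : c q0 = g (r (P w)) := hη _ (by rw [rpv]; exact h0.map c.continuous)
    obtain ⟨P0, -, hP0⟩ := Scheme.Pullback.exists_preimage_pullback (f := g) (g := c) (r (P w)) q0 hcq.symm
    obtain ⟨P', hP', hP'q⟩ : ∃ P', P0 ⤳ P' ∧ p P' = p (P w) := by
      have hcl : IsClosed (p '' closure {P0}) := p.isClosedMap _ isClosed_closure
      obtain ⟨P', h1, h2⟩ : p (P w) ∈ p '' closure {P0} :=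
        h0.mem_closed hcl ⟨P0, subset_closure rfl, hP0⟩
      exact ⟨P', specializes_iff_mem_closure.2 h1, h2⟩
    have e : P' = P w := huniq _ _ (by rw [rpv, hP'q, ← rpv]; exact hη) hP'q
    rw [← hP0, hP w P0 (e ▸ hP')]
  have hinj : Function.Injective fun w : s => p (P w) := by
    intro w w' h
    have e : P w = P w' := huniq _ _ (hg.gen _ (genW _ (hP w))) h
    have en : n w = n w' := eq_of_specializes p (P w) _ _ (hPn w) (e ▸ hPn w') (hn2 w) (hn2 w')
    exact Subtype.ext (by rw [← hn1 w, ← hn1 w', en])
  classical
  calc s.card = (Finset.univ.image fun w : s => p (P w)).card := by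
        rw [Finset.card_image_of_injective _ hinj, Finset.card_univ, Fintype.card_coe]
    _ ≤ _ := by
        refine Finset.card_le_card fun q hq' => ?_
        obtain ⟨w, -, rfl⟩ := Finset.mem_image.1 hq'
        exact (Set.Finite.mem_toFinset _).2 (hq w)

end AxRad
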