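import Groth.Agent.AxGrothLib.Noeth
import Groth.Agent.AxRadLib.Bound
import Groth.Agent.S1477

/-!
# Radicial endomorphisms of schemes of finite type over the integers

They are surjective, and finite: a radicial endomorphism that were not proper would increase the number of points
of generically radicial finite covers along a periodic closed point.
-/

set_option autoImplicit false
set_option linter.all false
set_option backward.isDefEq.respectTransparency false
set_option backward.isDefEq.respectTransparency.types false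
set_option maxHeartbeats 400000

universe u

open CategoryTheory CategoryTheory.Limits AlgebraicGeometry IsLocalRing Topology

noncomputable section

namespace AxRad

theorem injective_fieldPoints {X Y : Scheme.{u}} (g : X ⟶ Y) [UniversallyInjective g] (K : Type u) [Field K] :
    Function.Injective fun a : Spec (CommRingCat.of K) ⟶ X => a ≫ g :=
  (((tfae_universallyInjective g).out 0 1) : UniversallyInjective g ↔
    ∀ (K : Type u) [Field K], Function.Injective fun a : Spec (CommRingCat.of K) ⟶ X => a ≫ g).1 ‹_› K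

theorem isSeparated_of_universallyInjective {X Y : Scheme.{u}} (g : X ⟶ Y) [UniversallyInjective g] :
    IsSeparated g := by
  haveI : Surjective (pullback.diagonal g) := (UniversallyInjective.iff_diagonal g).1 ‹_›
  constructor
  exact IsClosedImmersion.of_isPreimmersion _ (by
    rw [Set.range_eq_univ.2 (pullback.diagonal g).surjective]; exact isClosed_univ)

theorem locallyQuasiFinite_of_universallyInjective {X Y : Scheme.{u}} (g : X ⟶ Y) [UniversallyInjective g]
    [LocallyOfFiniteType g] : LocallyQuasiFinite g :=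
  locallyQuasiFinite_iff_isDiscrete_preimage_singleton.2 fun _ =>
    (Set.subsingleton_singleton.preimage g.injective).isDiscrete

theorem eq_of_specializes_fibre {X Y : Scheme.{u}} (q : X ⟶ Y) [LocallyQuasiFinite q] {a b : X} (h : a ⤳ b)
    (e : q a = q b) : a = b := by
  haveI : DiscreteTopology (q ⁻¹' {q b}) :=
    isDiscrete_iff_discreteTopology.1 (q.isDiscrete_preimage_singleton (q b))
  have hs : (⟨a, e⟩ : q ⁻¹' {q b}) ⤳ ⟨b, rfl⟩ := (subtype_specializes_iff _ _).2 h
  exact congrArg Subtype.val (specializes_iff_eq.1 hs)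

variable {X : Scheme.{u}} (f : X ⟶ Spec (CommRingCat.of (ULift.{u} ℤ))) [LocallyOfFiniteType f] [QuasiCompact f]
  (g : X ⟶ X) [UniversallyInjective g]

include f

theorem locallyOfFiniteType_endo : LocallyOfFiniteType g := by
  haveI : LocallyOfFiniteType (g ≫ f) := by
    rw [specULiftZIsTerminal.hom_ext (g ≫ f) f]; infer_instance
  exact locallyOfFiniteType_of_comp g f

theorem surjective : Surjective g := by
  haveI : JacobsonSpace X := LocallyOfFiniteType.jacobsonSpace f
  haveI : IsLocallyNoetherian X := LocallyOfFiniteType.isLocallyNoetherian f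
  haveI : CompactSpace X := QuasiCompact.compactSpace_of_compactSpace f
  haveI : IsNoetherian X := ⟨⟩
  haveI := locallyOfFiniteType_endo f g
  haveI : LocallyOfFinitePresentation g := UOpenLib.locallyOfFinitePresentation_of_isLocallyNoetherian _
  have hcons : IsConstructible (Set.range g.base)ᶜ :=
    (g.isConstructible_image Topology.IsConstructible.univ |>.compl) |> fun h => by rwa [Set.image_univ] at h
  refine ⟨fun x => ?_⟩
  by_contra hx
  obtain ⟨p, hpC, hp⟩ := AxGroth.exists_closedPoint_of_isConstructible hcons ⟨x, hx⟩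
  haveI := AxGroth.finite_residueField f hp
  haveI := AxGroth.finite_spec_hom f (X.residueField p)
  obtain ⟨v, hv⟩ := (Finite.injective_iff_surjective.1 (injective_fieldPoints g (X.residueField p)))
    (X.fromSpecResidueField p)
  refine hpC ⟨v.base (closedPoint _), ?_⟩
  rw [← Scheme.Hom.comp_apply, show v ≫ g = _ from hv]
  exact Scheme.fromSpecResidueField_apply _ _

theorem periodic {x : X} (hx : IsClosed ({x} : Set X)) : ∃ n : ℕ, g^[n + 1] x = x := by
  haveI := AxGroth.finite_residueField f hx
  haveI := AxGroth.finite_spec_hom f (X.residueField x)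
  let G := fun a : Spec (CommRingCat.of (X.residueField x)) ⟶ X => a ≫ g
  obtain ⟨i, j, hij, e⟩ := Finite.exists_ne_map_eq_of_infinite fun k : ℕ => G^[k] (X.fromSpecResidueField x)
  wlog hlt : i < j generalizing i j
  · exact this j i hij.symm e.symm (lt_of_le_of_ne (not_lt.1 hlt) hij.symm)
  obtain ⟨n, rfl⟩ := Nat.exists_eq_add_of_lt hlt
  refine ⟨n, ?_⟩
  have e' : G^[n + 1] (X.fromSpecResidueField x) = X.fromSpecResidueField x := by
    apply (injective_fieldPoints g (X.residueField x)).iterate i
    show G^[i] (G^[n + 1] _) = G^[i] _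
    rw [← Function.iterate_add_apply]
    exact e.symm
  have key : ∀ k a, (G^[k] a) (closedPoint _) = g^[k] (a (closedPoint _)) := by
    intro k
    induction k with
    | zero => intro a; rfl
    | succ k ih =>
      intro a
      rw [Function.iterate_succ_apply', Function.iterate_succ_apply', ← ih]
      rfl
  have := key (n + 1) (X.fromSpecResidueField x)
  rw [e'] at this
  have hp : ∀ o, (X.fromSpecResidueField x) o = x := fun o => Scheme.fromSpecResidueField_apply x o
  exact (congrArg (g^[n + 1]) (hp _)).symm.trans (this.symm.trans (hp _))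

theorem isGen_map {η : X} (h : IsGen η) : IsGen (g η) := by
  haveI : CompactSpace X := QuasiCompact.compactSpace_of_compactSpace f
  haveI : IsLocallyNoetherian X := LocallyOfFiniteType.isLocallyNoetherian f
  haveI : IsNoetherian X := ⟨⟩
  let G := {x : X | IsGen x}
  have hmem : ∀ x, IsGen (g x) → IsGen x := by
    intro x hx
    obtain ⟨z, hz, hzx⟩ := exists_isGen x
    have : g z = g x := hx _ (hzx.map g.continuous)
    rwa [← g.injective this]
  haveI : Finite G := (finite_isGen X).to_subtype
  have hG : ∀ η : G, ∃ x : G, g x.1 = η.1 := fun η => by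
    obtain ⟨x, hx⟩ := (surjective f g).surj η.1
    exact ⟨⟨x, hmem x (by rw [hx]; exact η.2)⟩, hx⟩
  choose s hs using hG
  have hsi : Function.Injective s := fun a b e => Subtype.ext (by rw [← hs a, ← hs b, e])
  obtain ⟨a, ha⟩ := Finite.injective_iff_surjective.1 hsi ⟨η, h⟩
  have := hs a
  rw [ha] at this
  rw [this]
  exact a.2

/-- Some cover of `X` has at least `n` points over `y`. -/
def Cnt (y : X) (n : ℕ) : Prop :=
  ∃ (W : Scheme.{u}) (h : W ⟶ X), IsCover h ∧ ∃ s : Finset W, (∀ w ∈ s, h w = y) ∧ s.card = n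

omit [UniversallyInjective g] in
theorem exists_compactification [IsSeparated g] [QuasiCompact g] [LocallyQuasiFinite g] :
    ∃ (T : Scheme.{u}) (j : X ⟶ T) (π : T ⟶ X), IsOpenImmersion j ∧ QuasiCompact j ∧ IsFinite π ∧ j ≫ π = g := by
  haveI : IsLocallyNoetherian X := LocallyOfFiniteType.isLocallyNoetherian f
  haveI : CompactSpace X := QuasiCompact.compactSpace_of_compactSpace f
  haveI : IsNoetherian X := ⟨⟩
  haveI : LocallyOfFiniteType g := by
    haveI : LocallyOfFiniteType (g ≫ f) := by
      rw [specULiftZIsTerminal.hom_ext (g ≫ f) f]; infer_instance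
    exact locallyOfFiniteType_of_comp g f
  haveI : LocallyOfFinitePresentation g := UOpenLib.locallyOfFinitePresentation_of_isLocallyNoetherian _
  obtain ⟨T, j, π, h1, h2, h3, -, h4⟩ := Groth.Agent.S1477.result g
  exact ⟨T, j, π, h1, h2, h3, h4⟩

/-- A cover is pushed along the endomorphism, gaining a point at each limit point outside. -/
theorem exists_pushforward {T : Scheme.{u}} (j : X ⟶ T) (π : T ⟶ X) [IsOpenImmersion j] [QuasiCompact j]
    [IsFinite π] (hjπ : j ≫ π = g) {W : Scheme.{u}} (h : W ⟶ X) (hh : IsCover h) :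
    ∃ (W' : Scheme.{u}) (k : W' ⟶ X) (e : W → W'), IsCover k ∧ Function.Injective e ∧
      (∀ w, k (e w) = g (h w)) ∧
      ∀ t ∈ closure (Set.range j), t ∉ Set.range j → ∃ w', w' ∉ Set.range e ∧ k w' = π t := by
  haveI : IsLocallyNoetherian X := LocallyOfFiniteType.isLocallyNoetherian f
  haveI : CompactSpace X := QuasiCompact.compactSpace_of_compactSpace f
  haveI : IsLocallyNoetherian T := LocallyOfFiniteType.isLocallyNoetherian π
  haveI : CompactSpace T := QuasiCompact.compactSpace_of_compactSpace π
  haveI := hh.finite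
  haveI : IsLocallyNoetherian W := LocallyOfFiniteType.isLocallyNoetherian h
  haveI : CompactSpace W := QuasiCompact.compactSpace_of_compactSpace h
  haveI : IsNoetherian W := ⟨⟩
  haveI : LocallyOfFinitePresentation (h ≫ j) := UOpenLib.locallyOfFinitePresentation_of_isLocallyNoetherian _
  obtain ⟨TW, jW, πW, _, _, _, -, hjW⟩ := Groth.Agent.S1477.result (h ≫ j)
  let Z : TopologicalSpace.Closeds TW := ⟨closure (Set.range jW), isClosed_closure⟩
  let W' := (Scheme.IdealSheafData.vanishingIdeal Z).subscheme
  let i : W' ⟶ TW := (Scheme.IdealSheafData.vanishingIdeal Z).subschemeι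
  let q : TW ⟶ X := πW ≫ π
  let k : W' ⟶ X := i ≫ q
  have hi : Set.range i = closure (Set.range jW) := by
    rw [Scheme.IdealSheafData.range_subschemeι, Scheme.IdealSheafData.coe_support_vanishingIdeal]
    rfl
  have hq : ∀ w, q (jW w) = g (h w) := fun w => by
    show (jW ≫ πW ≫ π) w = _
    rw [reassoc_of% hjW, hjπ, Scheme.Hom.comp_apply]
  have hcl : ∀ z ∈ closure (Set.range jW), ∃ w0, IsGen w0 ∧ jW w0 ⤳ z := by
    intro z hz
    let S := ⋃ w0 ∈ (finite_isGen W).toFinset, closure ({jW w0} : Set TW)
    have hS : IsClosed S := Set.Finite.isClosed_biUnion (Finset.finite_toSet _) fun _ _ => isClosed_closure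
    have hsub : Set.range jW ⊆ S := by
      rintro _ ⟨w, rfl⟩
      obtain ⟨w0, h0, hw⟩ := exists_isGen w
      exact Set.mem_biUnion ((Set.Finite.mem_toFinset _).2 h0) (hw.map jW.continuous).mem_closure
    obtain ⟨w0, h0, hz0⟩ := Set.mem_iUnion₂.1 (closure_minimal hsub hS hz)
    exact ⟨w0, (Set.Finite.mem_toFinset _).1 h0, specializes_iff_mem_closure.2 hz0⟩
  have hgen0 : ∀ w0, IsGen w0 → IsGen (q (jW w0)) := fun w0 h0 => by
    rw [hq]; exact isGen_map f g (hh.gen w0 h0)
  have hlift : ∀ w, ∃ w', i w' = jW w := fun w => by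
    have : jW w ∈ Set.range i := by rw [hi]; exact subset_closure ⟨w, rfl⟩
    exact this
  choose e he using hlift
  refine ⟨W', k, e, ⟨inferInstance, ⟨fun x => ?_⟩, fun w' hw' => ?_, ?_⟩, ?_, fun w => ?_, ?_⟩
  · obtain ⟨x', rfl⟩ := (surjective f g).surj x
    obtain ⟨w, rfl⟩ := hh.surj.surj x'
    exact ⟨e w, by show q (i (e w)) = _; rw [he, hq]⟩
  · obtain ⟨w0, h0, hw0⟩ := hcl (i w') (hi ▸ Set.mem_range_self w')
    have hs : e w0 ⤳ w' := by
      rw [← i.isClosedEmbedding.isInducing.specializes_iff, he]
      exact hw0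
    rw [← hw' _ hs]
    show IsGen (q (i (e w0)))
    rw [he]
    exact hgen0 w0 h0
  · intro K _ a b hab hη
    have key : ∀ c : Spec (CommRingCat.of K) ⟶ W', IsGen (k (c (closedPoint K))) →
        Set.range (c ≫ i) ⊆ Set.range jW := by
      intro c hc
      rintro _ ⟨o, rfl⟩
      obtain rfl : o = closedPoint K := Subsingleton.elim _ _
      obtain ⟨w0, h0, hw0⟩ := hcl _ (hi ▸ Set.mem_range_self (c (closedPoint K)))
      have e1 : q (jW w0) = q (i (c (closedPoint K))) := hc _ (hw0.map q.continuous)
      exact ⟨w0, eq_of_specializes_fibre q hw0 e1⟩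
    have hηb : IsGen (k (b (closedPoint K))) := by
      rw [← Scheme.Hom.comp_apply, ← hab, Scheme.Hom.comp_apply]; exact hη
    let a' := IsOpenImmersion.lift jW (a ≫ i) (key a hη)
    let b' := IsOpenImmersion.lift jW (b ≫ i) (key b hηb)
    have ha' : a' ≫ jW = a ≫ i := IsOpenImmersion.lift_fac _ _ _
    have hb' : b' ≫ jW = b ≫ i := IsOpenImmersion.lift_fac _ _ _
    have hqq : jW ≫ q = h ≫ g := by rw [reassoc_of% hjW, hjπ]
    have hga : (a' ≫ h) ≫ g = a ≫ k := by rw [Category.assoc, ← hqq, reassoc_of% ha']
    have hgb : (b' ≫ h) ≫ g = b ≫ k := by rw [Category.assoc, ← hqq, reassoc_of% hb']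
    have e1 : a' ≫ h = b' ≫ h := injective_fieldPoints g K (hga.trans (hab.trans hgb.symm))
    have e2 : a' = b' := by
      refine hh.inj K _ _ e1 ?_
      obtain ⟨z, hz, hzx⟩ := exists_isGen (h (a' (closedPoint K)))
      have e3 : g (h (a' (closedPoint K))) = k (a (closedPoint K)) := by
        show ((a' ≫ h) ≫ g) (closedPoint K) = (a ≫ k) (closedPoint K)
        rw [hga]
      have e4 : g z = g (h (a' (closedPoint K))) :=
        (e3 ▸ hη : IsGen (g (h (a' (closedPoint K))))) _ (hzx.map g.continuous)
      rw [← g.injective e4]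
      exact hz
    rw [← cancel_mono i, ← ha', e2, hb']
  · intro w w' hww
    exact jW.isOpenEmbedding.injective (by rw [← he w, hww, he])
  · show q (i (e w)) = _
    rw [he, hq]
  · intro t ht htn
    have hc : IsClosed (πW '' closure (Set.range jW)) := πW.isClosedMap _ isClosed_closure
    have hsub : Set.range j ⊆ πW '' closure (Set.range jW) := by
      rintro _ ⟨x, rfl⟩
      obtain ⟨w, rfl⟩ := hh.surj.surj x
      refine ⟨jW w, subset_closure ⟨w, rfl⟩, ?_⟩
      show (jW ≫ πW) w = _
      rw [hjW, Scheme.Hom.comp_apply]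
    obtain ⟨z, hz, rfl⟩ := closure_minimal hsub hc ht
    obtain ⟨w', hw'⟩ : z ∈ Set.range i := hi ▸ hz
    refine ⟨w', ?_, congrArg π (congrArg πW hw')⟩
    rintro ⟨w, rfl⟩
    refine htn ⟨h w, ?_⟩
    rw [← hw', he]
    show (h ≫ j) w = (jW ≫ πW) w
    rw [hjW]

theorem isFinite [QuasiSeparated f] : IsFinite g := by
  haveI : JacobsonSpace X := LocallyOfFiniteType.jacobsonSpace f
  haveI : IsLocallyNoetherian X := LocallyOfFiniteType.isLocallyNoetherian f
  haveI := isSeparated_of_universallyInjective g
  haveI := locallyOfFiniteType_endo f g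
  haveI := locallyQuasiFinite_of_universallyInjective g
  haveI : QuasiCompact (g ≫ f) := by rw [specULiftZIsTerminal.hom_ext (g ≫ f) f]; infer_instance
  haveI : QuasiCompact g := QuasiCompact.of_comp g f
  obtain ⟨T, j, π, _, _, _, hjπ⟩ := exists_compactification f g
  haveI : LocallyOfFiniteType (π ≫ f) := inferInstance
  haveI : JacobsonSpace T := LocallyOfFiniteType.jacobsonSpace (π ≫ f)
  by_cases hc : IsClosed (Set.range j)
  · haveI := IsClosedImmersion.of_isPreimmersion j hc
    rw [← hjπ]
    infer_instance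
  exfalso
  have hne : (closure (Set.range j) ∩ (Set.range j)ᶜ).Nonempty := by
    by_contra hn
    apply hc
    rw [← closure_subset_iff_isClosed]
    intro z hz
    by_contra hzn
    exact hn ⟨z, hz, hzn⟩
  obtain ⟨t, ⟨ht, htn⟩, htc⟩ := nonempty_inter_closedPoints hne
    (isClosed_closure.inter j.isOpenEmbedding.isOpen_range.isClosed_compl).isLocallyClosed
  obtain ⟨x, hx⟩ := (surjective f g).surj (π t)
  have hyc : IsClosed ({π t} : Set X) := by
    simpa only [Set.image_singleton] using π.isClosedMap _ (mem_closedPoints_iff.1 htc)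
  have hxc : IsClosed ({x} : Set X) := by
    have : ({x} : Set X) = g ⁻¹' {π t} := by
      ext z
      simp only [Set.mem_singleton_iff, Set.mem_preimage, ← hx]
      exact ⟨fun e => e ▸ rfl, fun e => g.injective e⟩
    rw [this]
    exact hyc.preimage g.continuous
  obtain ⟨n, hn⟩ := periodic f g hxc
  have step : ∀ y k, Cnt y k → Cnt (g y) k := by
    rintro y k ⟨W, h, hh, s, hs, rfl⟩
    obtain ⟨W', k', e, hk, hei, hek, -⟩ := exists_pushforward f g j π hjπ h hh
    classical
    refine ⟨W', k', hk, s.image e, fun w' hw' => ?_, Finset.card_image_of_injective _ hei⟩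
    obtain ⟨w, hw, rfl⟩ := Finset.mem_image.1 hw'
    rw [hek, hs w hw]
  have jump : ∀ k, Cnt x k → Cnt (g x) (k + 1) := by
    rintro k ⟨W, h, hh, s, hs, rfl⟩
    obtain ⟨W', k', e, hk, hei, hek, hex⟩ := exists_pushforward f g j π hjπ h hh
    obtain ⟨w', hw'n, hw'⟩ := hex t ht htn
    classical
    refine ⟨W', k', hk, insert w' (s.image e), fun v hv => ?_, ?_⟩
    · rcases Finset.mem_insert.1 hv with rfl | hv
      · rw [hw', hx]
      · obtain ⟨w, hw, rfl⟩ := Finset.mem_image.1 hv
        rw [hek, hs w hw]
    · rw [Finset.card_insert_of_notMem, Finset.card_image_of_injective _ hei]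
      intro hm
      obtain ⟨w, -, hw⟩ := Finset.mem_image.1 hm
      exact hw'n ⟨w, hw⟩
  have iter : ∀ i y k, Cnt y k → Cnt (g^[i] y) k := by
    intro i
    induction i with
    | zero => exact fun _ _ h => h
    | succ i ih =>
      intro y k h
      rw [Function.iterate_succ_apply']
      exact step _ _ (ih y k h)
  have all : ∀ k, Cnt x k := by
    intro k
    induction k with
    | zero => exact ⟨X, 𝟙 X, isCover_id X, ∅, by simp, rfl⟩
    | succ k ih =>
      have := iter n _ _ (jump k ih)
      rwa [← Function.iterate_succ_apply, hn] at this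
  obtain ⟨m, hm⟩ := exists_bound x
  obtain ⟨W, h, hh, s, hs, hcard⟩ := all (m + 1)
  have := hm W h hh s hs
  omega

end AxRad
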